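import Groth.Agent.FormFin.System

/-!
The finite scheme of an algebraized system of algebras.
-/

set_option autoImplicit false
set_option maxHeartbeats 1000000
set_option backward.isDefEq.respectTransparency false
set_option backward.isDefEq.respectTransparency.types false
set_option linter.style.haveILetI false

universe u

open CategoryTheory CategoryTheory.Limits AlgebraicGeometry TopologicalSpace Opposite

noncomputable section

namespace Groth.Agent.FormFin

open Groth.Agent.QC Groth.Agent.LefFEt Groth.Agent.LefEssSurj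

variable {X : Scheme.{u}} {E : X.Modules} (R : AlgData E) (hE : Coh.IsCoh E)

theorem isFinite_π : IsFinite (R.π hE.1) := by
  refine ⟨fun U hU => ?_⟩
  letI : Algebra Γ(X, U) (R.Sec U) := R.algebraSec U
  let e : Γ(E, U) ≃ₗ[Γ(X, U)] R.Sec U :=
    { toFun := fun a => a
      invFun := fun a => a
      left_inv := fun _ => rfl
      right_inv := fun _ => rfl
      map_add' := fun _ _ => rfl
      map_smul' := fun _ _ => rfl }
  haveI : Module.Finite Γ(X, U) Γ(E, U) := (QC.isCoh_iff_finite_sections.mp hE).2 ⟨U, hU⟩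
  haveI : Module.Finite Γ(X, U) (R.Sec U) := Module.Finite.equiv e
  have h : (R.str U).Finite := by
    rw [show R.str U = algebraMap Γ(X, U) (R.Sec U) from rfl]
    exact RingHom.finite_algebraMap.mpr inferInstance
  have heq : CommRingCat.ofHom (R.str U) ≫ (R.secIso hE.1 ⟨U, hU⟩).inv = (R.π hE.1).app U := by
    rw [← R.app_secIso hE.1 ⟨U, hU⟩, Category.assoc, Iso.hom_inv_id, Category.comp_id]
  rw [← heq]
  exact (RingHom.finite_respectsIso.cancel_right_isIso _ _).mpr h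

/-- The cover lies over the support. -/
theorem range_π_subset : Set.range (R.π hE.1) ⊆ CohB1.support E := by
  rintro _ ⟨w, rfl⟩
  by_contra hx
  have hO : IsOpen (CohB1.support E)ᶜ := (QC.isClosed_support hE.2).isOpen_compl
  obtain ⟨D, hD, hxD, hDO⟩ := exists_isAffineOpen_mem_and_subset (U := ⟨_, hO⟩) hx
  haveI : Subsingleton Γ(E, D) :=
    ⟨fun a b => sub_eq_zero.1 (W7Exist.eq_zero_of_support (fun z hz => hDO hz) (a - b))⟩
  haveI : Subsingleton (R.Sec D) := ‹Subsingleton Γ(E, D)›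
  have h1 : (1 : Γ(R.spec hE.1, R.π hE.1 ⁻¹ᵁ D)) = 0 :=
    (ConcreteCategory.bijective_of_isIso (R.secIso hE.1 ⟨D, hD⟩).hom).1 (Subsingleton.elim (α := R.Sec D) _ _)
  have hunit : w ∈ (R.spec hE.1).basicOpen (1 : Γ(R.spec hE.1, R.π hE.1 ⁻¹ᵁ D)) := by
    rw [Scheme.basicOpen_of_isUnit _ isUnit_one]; exact hxD
  rw [h1, Scheme.basicOpen_zero] at hunit
  exact hunit

/-- The cover is proper over the base. -/
theorem isProper_π {S : Scheme.{u}} (f : X ⟶ S) [LocallyOfFiniteType f]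
    (hs : ClSub.IsProperOver f (CohB1.support E)) : IsProper (R.π hE.1 ≫ f) := by
  haveI := isFinite_π R hE
  let π := R.π hE.1
  haveI : IsProper π := inferInstance
  have hr : Set.range π.imageι ⊆ CohB1.support E := by
    rw [Scheme.Hom.imageι, Scheme.IdealSheafData.range_subschemeι, Scheme.Hom.support_ker]
    exact closure_minimal (range_π_subset R hE) (QC.isClosed_support hE.2)
  haveI : IsProper (π.imageι ≫ f) := ClSubLib.isProper_comp f π.imageι hs hr
  haveI : IsProper (π.toImage ≫ π.imageι) := by rw [π.toImage_imageι]; infer_instance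
  haveI : IsProper π.toImage := IsProper.of_comp π.toImage π.imageι
  have : IsProper (π.toImage ≫ π.imageι ≫ f) := inferInstance
  rwa [π.toImage_imageι_assoc] at this

namespace AlgSysSec

open Groth.Agent.LefEssSurj.AlgSys

variable {X : Scheme.{u}} {J : X.IdealSheafData} {E : X.Modules} (S : AlgSys J E) (A : AlgData E) (hE : Coh.IsQCoh E)
  (hm : ∀ (n : ℕ) (U : X.Opens) (a b : Γ(E, U)),
      (S.θ n).app U (A.μ.app U (TMul.tm a b)) = mulA (S.q n) ((S.θ n).app U a) ((S.θ n).app U b))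
  (h1 : ∀ (n : ℕ) (U : X.Opens), (S.θ n).app U (res E le_top A.one) = unitA (S.q n) U)

include hm h1 in
/-- The embedding of a level, with its effect on sections. -/
theorem exists_closed_sec [∀ n, IsAffineHom (S.q n)] (n : ℕ) : ∃ k : S.T n ⟶ A.spec hE,
    k ≫ A.π hE = S.q n ∧ IsClosedImmersion k ∧ k.ker = (J ^ (n + 1)).comap (A.π hE) ∧
      ∀ (U : X.affineOpens) (hle : (S.q n) ⁻¹ᵁ U.1 ≤ k ⁻¹ᵁ (A.π hE ⁻¹ᵁ U.1)) (z : Γ(A.spec hE, A.π hE ⁻¹ᵁ U.1)),
        k.appLE _ _ hle z = S.red A hm h1 n U.1 ((A.secIso hE U).hom z) := by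
  obtain ⟨k, hk, hsec⟩ := S.exists_toSpec A hE hm h1 n
  have hpre : ∀ U : X.affineOpens, k ⁻¹ᵁ (A.π hE ⁻¹ᵁ U.1) = (S.q n) ⁻¹ᵁ U.1 := fun U => by
    rw [← Scheme.Hom.comp_preimage, hk]
  let P : X.affineOpens → (A.spec hE).affineOpens := fun U => ⟨A.π hE ⁻¹ᵁ U.1, U.2.preimage (A.π hE)⟩
  have hP : ⨆ U, (P U).1 = ⊤ := by
    refine top_le_iff.1 fun x _ => ?_
    obtain ⟨U, hU, -⟩ := KosExt.exists_affine_le (O := ⊤) (x := A.π hE x) trivial
    exact Opens.mem_iSup.mpr ⟨U, hU⟩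
  have happ : ∀ (U : X.affineOpens) (z : Γ(A.spec hE, A.π hE ⁻¹ᵁ U.1)),
      (S.T n).presheaf.map (eqToHom (hpre U).symm).op (k.app (A.π hE ⁻¹ᵁ U.1) z) =
        S.red A hm h1 n U.1 ((A.secIso hE U).hom z) := fun U z => by
    rw [← hsec U (hpre U).ge z]
    rfl
  haveI haff : IsAffineHom k := by
    haveI : IsAffineHom (k ≫ A.π hE) := hk.symm ▸ (inferInstance : IsAffineHom (S.q n))
    exact IsAffineHom.of_comp k (A.π hE)
  have hsurj : ∀ U : X.affineOpens, Function.Surjective (k.app (A.π hE ⁻¹ᵁ U.1)) := fun U t => by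
    obtain ⟨a, ha⟩ := S.surj n U ((S.T n).presheaf.map (eqToHom (hpre U).symm).op t)
    refine ⟨(A.secIso hE U).inv a, ?_⟩
    apply ((ConcreteCategory.bijective_of_isIso ((S.T n).presheaf.map (eqToHom (hpre U).symm).op))).1
    rw [happ, ← ConcreteCategory.comp_apply, Iso.inv_hom_id]
    exact ha
  haveI : IsClosedImmersion k := by
    refine (IsZariskiLocalAtTarget.iff_of_iSup_eq_top (P := @IsClosedImmersion) (fun U => (P U).1) hP).mpr
      fun U => ?_
    haveI : IsAffine (P U).1.toScheme := (P U).2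
    haveI : IsAffine (k ⁻¹ᵁ (P U).1).toScheme := (P U).2.preimage k
    refine IsClosedImmersion.of_surjective_of_isAffine _ ?_
    rw [morphismRestrict_appTop]
    simp only [CommRingCat.hom_comp, RingHom.coe_comp]
    refine (ConcreteCategory.bijective_of_isIso _).2.comp ?_
    have key : ∀ V : (A.spec hE).Opens, V = (P U).1 → Function.Surjective (k.app V) := by
      rintro V rfl
      exact hsurj U
    exact key _ (P U).1.ι_image_top
  refine ⟨k, hk, inferInstance, Scheme.IdealSheafData.ext_of_iSup_eq_top P hP fun U => ?_, hsec⟩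
  rw [Scheme.Hom.ker_apply, FittLib.comap_ideal (A.π hE) _ U.2 (P U).2 le_rfl, ← Scheme.Hom.app_eq_appLE]
  ext z
  rw [RingHom.mem_ker]
  have hz : k.app (P U).1 z = 0 ↔ Cong (J ^ (n + 1)) U (show Γ(E, U.1) from (A.secIso hE U).hom z) := by
    rw [← S.ker n U, ← map_eq_zero_iff _
      (ConcreteCategory.bijective_of_isIso ((S.T n).presheaf.map (eqToHom (hpre U).symm).op)).1, happ]
    rfl
  refine hz.trans ⟨fun h => ?_, fun h => ?_⟩
  · have : ∀ a : Γ(E, U.1), Cong (J ^ (n + 1)) U a →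
        (A.secIso hE U).inv (show A.Sec U.1 from a) ∈ ((J ^ (n + 1)).ideal U).map ((A.π hE).app U.1).hom := by
      intro a ha
      refine Submodule.smul_induction_on ha (fun r hr w _ => ?_) (fun y w hy hw => ?_)
      · have h3 : (A.secIso hE U).inv (show A.Sec U.1 from r • w) =
            (A.π hE).app U.1 r * (A.secIso hE U).inv (show A.Sec U.1 from w) := by
          rw [show (show A.Sec U.1 from r • w) = A.str U.1 r * (show A.Sec U.1 from w) from
            (A.str_mul U.1 r w).symm, map_mul]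
          congr 1
          have h4 := congrArg (fun g => CommRingCat.Hom.hom g r) (A.app_secIso hE U)
          change (A.secIso hE U).hom ((A.π hE).app U.1 r) = A.str U.1 r at h4
          rw [← h4, ← ConcreteCategory.comp_apply, Iso.hom_inv_id]
          rfl
        rw [h3]
        exact Ideal.mul_mem_right _ _ (Ideal.mem_map_of_mem _ hr)
      · exact (map_add (A.secIso hE U).inv.hom (show A.Sec U.1 from y) (show A.Sec U.1 from w)).symm ▸ add_mem hy hw
    have h5 := this _ h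
    rwa [← ConcreteCategory.comp_apply, Iso.hom_inv_id] at h5
  · refine Submodule.span_induction (p := fun w _ => Cong (J ^ (n + 1)) U
      (show Γ(E, U.1) from (A.secIso hE U).hom w)) ?_ ?_ ?_ ?_ h
    · rintro _ ⟨r, hr, rfl⟩
      have h4 := congrArg (fun g => CommRingCat.Hom.hom g r) (A.app_secIso hE U)
      change (A.secIso hE U).hom ((A.π hE).app U.1 r) = A.str U.1 r at h4
      rw [h4]
      exact Submodule.smul_mem_smul hr Submodule.mem_top
    · exact (map_zero (A.secIso hE U).hom.hom).symm ▸ zero_mem _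
    · intro x y _ _ hx hy
      exact (map_add (A.secIso hE U).hom.hom x y).symm ▸ add_mem hx hy
    · intro c x _ hx
      change Cong (J ^ (n + 1)) U (show Γ(E, U.1) from (A.secIso hE U).hom (c * x))
      rw [map_mul]
      exact cong_mulS A _ U _ _ hx

/-- The embeddings are compatible. -/
theorem comp_eq (n : ℕ) (k : S.T n ⟶ A.spec hE) (k' : S.T (n + 1) ⟶ A.spec hE) (hk : k ≫ A.π hE = S.q n)
    (hk' : k' ≫ A.π hE = S.q (n + 1))
    (hs : ∀ (U : X.affineOpens) (hle : (S.q n) ⁻¹ᵁ U.1 ≤ k ⁻¹ᵁ (A.π hE ⁻¹ᵁ U.1)) (z : Γ(A.spec hE, A.π hE ⁻¹ᵁ U.1)),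
      k.appLE _ _ hle z = S.red A hm h1 n U.1 ((A.secIso hE U).hom z))
    (hs' : ∀ (U : X.affineOpens) (hle : (S.q (n + 1)) ⁻¹ᵁ U.1 ≤ k' ⁻¹ᵁ (A.π hE ⁻¹ᵁ U.1))
      (z : Γ(A.spec hE, A.π hE ⁻¹ᵁ U.1)),
      k'.appLE _ _ hle z = S.red A hm h1 (n + 1) U.1 ((A.secIso hE U).hom z)) :
    k = S.i n ≫ k' := by
  have hcover : ⨆ U : X.affineOpens, (S.q n) ⁻¹ᵁ U.1 = ⊤ := by
    rw [← Scheme.Hom.preimage_iSup, iSup_affineOpens_eq_top]; rfl
  refine Scheme.Cover.hom_ext ((S.T n).openCoverOfIsOpenCover (fun U : X.affineOpens => (S.q n) ⁻¹ᵁ U.1)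
    (TopologicalSpace.IsOpenCover.mk hcover)) _ _ fun (U : X.affineOpens) => ?_
  haveI : IsAffine (A.π hE ⁻¹ᵁ U.1).toScheme := U.2.preimage (A.π hE)
  have hle : (S.q n) ⁻¹ᵁ U.1 ≤ k ⁻¹ᵁ (A.π hE ⁻¹ᵁ U.1) := by rw [← Scheme.Hom.comp_preimage, hk]
  have hle' : (S.q (n + 1)) ⁻¹ᵁ U.1 ≤ k' ⁻¹ᵁ (A.π hE ⁻¹ᵁ U.1) := by rw [← Scheme.Hom.comp_preimage, hk']
  have hle2 : (S.q n) ⁻¹ᵁ U.1 ≤ (S.i n ≫ k') ⁻¹ᵁ (A.π hE ⁻¹ᵁ U.1) := by
    rw [← Scheme.Hom.comp_preimage, Category.assoc, hk', S.w]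
  show ((S.q n) ⁻¹ᵁ U.1).ι ≫ k = ((S.q n) ⁻¹ᵁ U.1).ι ≫ S.i n ≫ k'
  rw [← Scheme.Hom.resLE_comp_ι k hle, ← Scheme.Hom.resLE_comp_ι (S.i n ≫ k') hle2]
  refine congrArg (· ≫ _) (ext_of_isAffine ?_)
  have key : k.appLE _ _ hle = (S.i n ≫ k').appLE _ _ hle2 := by
    refine Eq.trans ?_ (Scheme.Hom.appLE_comp_appLE (S.i n) k' (A.π hE ⁻¹ᵁ U.1) ((S.q (n + 1)) ⁻¹ᵁ U.1)
      ((S.q n) ⁻¹ᵁ U.1) hle' (preimage_le_of_comp (S.i n) (S.w n) U.1))
    ext z
    rw [ConcreteCategory.comp_apply, hs U hle z, hs' U hle' z]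
    exact (S.θ_step n _).symm
  show (k.resLE _ _ hle).app ⊤ = ((S.i n ≫ k').resLE _ _ hle2).app ⊤
  rw [Scheme.Hom.resLE_app_top, Scheme.Hom.resLE_app_top, key]

end AlgSysSec

end Groth.Agent.FormFin
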