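import Groth.Agent.LefEssSurj.System
import Groth.Agent.LefEssSurj.Cover

/-!
Algebra structures on the algebraisation of a system of algebras, from any class of modules with unique lifts.
-/

set_option autoImplicit false
set_option maxHeartbeats 1000000
set_option backward.isDefEq.respectTransparency false
set_option backward.isDefEq.respectTransparency.types false
set_option linter.style.haveILetI false

universe u

open CategoryTheory CategoryTheory.Limits AlgebraicGeometry TopologicalSpace Opposite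

noncomputable section

namespace Groth.Agent.FormFin

open Groth.Agent.QC Groth.Agent.LefFEt Groth.Agent.LefEssSurj Groth.Agent.LefEssSurj.AlgSys

variable {X : Scheme.{u}} {J : X.IdealSheafData} {E : X.Modules} (S : AlgSys J E) (P : X.Modules → Prop)

/-- The algebra structure lifting those of the reductions. -/
theorem exists_algData_of_lift
    (hlift : ∀ {D : X.Modules}, P D → ∀ ψ : ∀ n, D ⟶ alg (S.q n), (∀ n, ψ (n + 1) ≫ algMap (S.i n) (S.w n) = ψ n) →
      ∃ φ : D ⟶ E, ∀ n, φ ≫ S.θ n = ψ n)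
    (hext : ∀ {D : X.Modules}, P D → ∀ φ φ' : D ⟶ E, (∀ n, φ ≫ S.θ n = φ' ≫ S.θ n) → φ = φ')
    (hE : P E) (hO : P (Coh.structureModule X)) (hten : ∀ {D D' : X.Modules}, P D → P D' → P (CohB1.tensorMod D D')) :
    ∃ A : AlgData E,
    (∀ (n : ℕ) (U : X.Opens) (a b : Γ(E, U)),
      (S.θ n).app U (A.μ.app U (TMul.tm a b)) = mulA (S.q n) ((S.θ n).app U a) ((S.θ n).app U b)) ∧
    ∀ (n : ℕ) (U : X.Opens), (S.θ n).app U (res E le_top A.one) = unitA (S.q n) U := by
  have hEE := hten hE hE
  obtain ⟨μ, hμ⟩ := hlift hEE S.ψ S.ψ_step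
  obtain ⟨e, he⟩ := hlift hO S.unitMap S.unitMap_step
  have hm : ∀ (n : ℕ) (U : X.Opens) (a b : Γ(E, U)),
      (S.θ n).app U (μ.app U (TMul.tm a b)) = mulA (S.q n) ((S.θ n).app U a) ((S.θ n).app U b) :=
    fun n U a b => (congrArg (fun g : CohB1.tensorMod E E ⟶ alg (S.q n) => g.app U (TMul.tm a b)) (hμ n)).trans
      (S.ψ_tm n a b)
  let one : Γ(E, (⊤ : X.Opens)) := e.app ⊤ (show Γ(Coh.structureModule X, ⊤) from (1 : Γ(X, ⊤)))
  have hone : ∀ (n : ℕ) (U : X.Opens), (S.θ n).app U (res E le_top one) = unitA (S.q n) U := by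
    intro n U
    rw [← app_res]
    refine (congrArg _ ((congrArg (fun g : Coh.structureModule X ⟶ alg (S.q n) => g.app ⊤
      (show Γ(Coh.structureModule X, ⊤) from (1 : Γ(X, ⊤)))) (he n)).trans
      ((S.unitMap_app n ⊤ 1).trans (map_one ((S.q n).app ⊤).hom)))).trans ?_
    exact res_unitA (S.q n) le_top
  have ext : ∀ {D : X.Modules}, P D → ∀ φ φ' : D ⟶ E, (∀ n, φ ≫ S.θ n = φ' ≫ S.θ n) → φ = φ' := hext
  refine ⟨{ μ := μ, one := one, comm := ?_, assoc := ?_, one_mul := ?_ }, hm, hone⟩
  · intro U a b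
    have h := ext hEE (TMul.commHom E E ≫ μ) μ fun n => TMul.hom_ext fun V c d => by
      change (S.θ n).app V (μ.app V ((TMul.commHom E E).app V (TMul.tm c d))) = (S.θ n).app V (μ.app V (TMul.tm c d))
      rw [TMul.commHom_tm, hm, hm]
      exact mulA_comm _ _ _
    have h' := congrArg (fun g : CohB1.tensorMod E E ⟶ E => g.app U (TMul.tm b a)) h
    rw [← h']
    change μ.app U (TMul.tm a b) = μ.app U ((TMul.commHom E E).app U (TMul.tm b a))
    rw [TMul.commHom_tm]
  · intro U a b c
    let b1 : ∀ U : X.Opens, Γ(CohB1.tensorMod E E, U) →ₗ[Γ(X, U)] Γ(E, U) →ₗ[Γ(X, U)] Γ(E, U) := fun U =>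
      LinearMap.mk₂ _ (fun d c => μ.app U (TMul.tm (μ.app U d) c))
        (fun d d' c => by rw [map_add, TMul.tm_add, map_add])
        (fun r d c => by rw [TMul.app_smul, TMul.smul_tm, TMul.app_smul])
        (fun d c c' => by rw [TMul.add_tm, map_add])
        (fun r d c => by rw [TMul.tm_smul, TMul.app_smul])
    let b2 : ∀ U : X.Opens, Γ(E, U) →ₗ[Γ(X, U)] Γ(CohB1.tensorMod E E, U) →ₗ[Γ(X, U)] Γ(E, U) := fun U =>
      LinearMap.mk₂ _ (fun c d => μ.app U (TMul.tm c (μ.app U d)))
        (fun c c' d => by rw [TMul.tm_add, map_add])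
        (fun r c d => by rw [TMul.smul_tm, TMul.app_smul])
        (fun c d d' => by rw [map_add, TMul.add_tm, map_add])
        (fun r c d => by rw [TMul.app_smul, TMul.tm_smul, TMul.app_smul])
    have hb1 : ∀ {V U : X.Opens} (h : V ≤ U) (d : Γ(CohB1.tensorMod E E, U)) (c : Γ(E, U)),
        res E h (b1 U d c) = b1 V (res _ h d) (res E h c) := fun h d c => by
      simp only [b1, LinearMap.mk₂_apply]
      rw [app_res, TMul.res_tm, app_res]
    have hb2 : ∀ {V U : X.Opens} (h : V ≤ U) (c : Γ(E, U)) (d : Γ(CohB1.tensorMod E E, U)),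
        res E h (b2 U c d) = b2 V (res E h c) (res _ h d) := fun h c d => by
      simp only [b2, LinearMap.mk₂_apply]
      rw [app_res, TMul.res_tm, app_res]
    have e1 : ∀ (V : X.Opens) (x y z : Γ(E, V)), (TMul.lift b1 hb1).app V (TMul.tm (TMul.tm x y) z) =
        μ.app V (TMul.tm (μ.app V (TMul.tm x y)) z) := fun V x y z => TMul.lift_tm b1 hb1 _ _
    have e2 : ∀ (V : X.Opens) (x y z : Γ(E, V)),
        (TMul.assocHom E E E ≫ TMul.lift b2 hb2).app V (TMul.tm (TMul.tm x y) z) =
          μ.app V (TMul.tm x (μ.app V (TMul.tm y z))) := fun V x y z => by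
      change (TMul.lift b2 hb2).app V ((TMul.assocHom E E E).app V (TMul.tm (TMul.tm x y) z)) = _
      rw [TMul.assocHom_tm]
      exact TMul.lift_tm b2 hb2 _ _
    have h := ext (hten hEE hE) (TMul.lift b1 hb1)
      (TMul.assocHom E E E ≫ TMul.lift b2 hb2) fun n => TMul.hom_ext₃ fun V x y z => by
        change (S.θ n).app V ((TMul.lift b1 hb1).app V (TMul.tm (TMul.tm x y) z)) =
          (S.θ n).app V ((TMul.assocHom E E E ≫ TMul.lift b2 hb2).app V (TMul.tm (TMul.tm x y) z))
        rw [e1, e2, hm, hm, hm, hm]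
        exact mulA_assoc _ _ _ _
    rw [← e1, ← e2, h]
  · intro U a
    obtain ⟨φ, hφ⟩ := KosExt.exists_hom_affine E E
      (fun V => { toFun := fun c => μ.app V.1 (TMul.tm (res E le_top one) c)
                  map_add' := fun c c' => by rw [TMul.add_tm, map_add]
                  map_smul' := fun r c => by rw [TMul.tm_smul, TMul.app_smul]; rfl })
      (fun V W h c => by
        change res E h (μ.app V.1 (TMul.tm (res E le_top one) c)) = μ.app W.1 (TMul.tm (res E le_top one) (res E h c))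
        rw [app_res, TMul.res_tm, res_res])
    have h := ext hE φ (𝟙 E) fun n => KosExt.hom_ext_affine fun V c => by
      change (S.θ n).app V.1 (φ.app V.1 c) = (S.θ n).app V.1 c
      rw [hφ]
      change (S.θ n).app V.1 (μ.app V.1 (TMul.tm (res E le_top one) c)) = _
      rw [hm, hone]
      exact unitA_mulA _ _
    refine section_eq_of_locally fun x hx => ?_
    obtain ⟨V, hxV, hV⟩ := KosExt.exists_affine_le hx
    refine ⟨V.1, hV, hxV, ?_⟩
    rw [app_res, TMul.res_tm, res_res]
    refine (hφ V (res E hV a)).symm.trans ?_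
    rw [h]
    rfl

end Groth.Agent.FormFin
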