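import Groth.Agent.FormFin.Mult
import Groth.Agent.W7Alg.Closed
import Groth.Agent.W7Rees.HomFull
import Groth.Agent.W7Exist.Induct
import Groth.Agent.S2297
import Groth.Agent.RefStalk.Refl

/-!
The system of direct images of functions of a formal finite scheme.
-/

set_option autoImplicit false
set_option maxHeartbeats 1000000
set_option backward.isDefEq.respectTransparency false
set_option backward.isDefEq.respectTransparency.types false
set_option linter.style.haveILetI false

universe u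

open CategoryTheory CategoryTheory.Limits AlgebraicGeometry TopologicalSpace Opposite

noncomputable section

namespace Groth.Agent.FormFin

open Groth.Agent.QC Groth.Agent.LefFEt Groth.Agent.LefEssSurj

variable {A : Type u} [CommRing A] {X : Scheme.{u}} [X.Over (Spec (CommRingCat.of A))] {I : Ideal A}

omit [X.Over (Spec (CommRingCat.of A))] in
lemma cong_iff_mem {T : Scheme.{u}} (q : T ⟶ X) [IsAffineHom q] (I : X.IdealSheafData) (U : X.affineOpens)
    (a : Γ(alg q, U.1)) :
    Cong I U a ↔ (show Γ(T, q ⁻¹ᵁ U.1) from a) ∈ (I.comap q).ideal ⟨q ⁻¹ᵁ U.1, U.2.preimage q⟩ := by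
  rw [FittLib.comap_ideal q I U.2 (U.2.preimage q) le_rfl, ← Scheme.Hom.app_eq_appLE]
  constructor
  · intro h
    refine Submodule.smul_induction_on h (fun r hr z _ => ?_) (fun y z hy hz => add_mem hy hz)
    exact Ideal.mul_mem_right (show Γ(T, q ⁻¹ᵁ U.1) from z) _ (Ideal.mem_map_of_mem _ hr)
  · intro h
    obtain ⟨k, c, g, hg⟩ := Submodule.mem_span_set'.mp h
    rw [show a = ∑ i : Fin k, c i * (g i : Γ(T, q ⁻¹ᵁ U.1)) from hg.symm]
    refine Submodule.sum_mem _ fun i _ => ?_
    obtain ⟨r, hr, hrg⟩ := (g i).2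
    rw [← hrg, mul_comm]
    exact Submodule.smul_mem_smul (M := Γ(alg q, U.1)) hr
      (Submodule.mem_top (x := (show Γ(alg q, U.1) from c i)))

omit [X.Over (Spec (CommRingCat.of A))] in
theorem isIso_of_bijective_affine {M N : X.Modules} (φ : M ⟶ N)
    (h : ∀ U : X.affineOpens, Function.Bijective (φ.app U.1)) : IsIso φ := by
  let e : ∀ U : X.affineOpens, Γ(M, U.1) ≃ₗ[Γ(X, U.1)] Γ(N, U.1) := fun U =>
    LinearEquiv.ofBijective (QC.appₗ φ U.1) (h U)
  have he : ∀ U s, φ.app U.1 ((e U).symm s) = s := fun U s => (e U).apply_symm_apply s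
  obtain ⟨ψ, hψ⟩ := KosExt.exists_hom_affine N M (fun U => (e U).symm.toLinearMap) fun U V hVU s => (h V).1 <| by
    change φ.app V.1 (res M hVU ((e U).symm s)) = φ.app V.1 ((e V).symm (res N hVU s))
    rw [he, ← app_res, he]
  refine ⟨ψ, KosExt.hom_ext_affine fun U s => ?_, KosExt.hom_ext_affine fun U s => ?_⟩
  · change ψ.app U.1 (φ.app U.1 s) = s
    rw [hψ]
    exact (e U).symm_apply_apply s
  · change φ.app U.1 (ψ.app U.1 s) = s
    rw [hψ]
    exact he U s

/-- A system of affine schemes over the thickenings, cartesian over them. -/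
structure Sys (J : X.IdealSheafData) where
  /-- The schemes. -/
  T : ℕ → Scheme.{u}
  /-- Their structure maps. -/
  q : ∀ n, T n ⟶ X
  /-- The transition maps. -/
  i : ∀ n, T n ⟶ T (n + 1)
  w : ∀ n, i n ≫ q (n + 1) = q n
  fin : ∀ n, IsFinite (q n)
  closed : ∀ n, IsClosedImmersion (i n)
  ker : ∀ n, (i n).ker = (J ^ (n + 1)).comap (q (n + 1))
  killed : ∀ n, (J ^ (n + 1)).comap (q n) = ⊥

variable {J : X.IdealSheafData} (hJ : ∀ V : X.affineOpens, J.ideal V = I.map (W7Cech.secRing A V.1)) (S : Sys J)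

namespace Sys

include hJ in
theorem ideal_pow (n : ℕ) (V : X.affineOpens) :
    (J ^ n).ideal V = (I.map (W7Cech.secRing A V.1)) ^ n := by
  rw [Scheme.IdealSheafData.ideal_pow, Pi.pow_apply, hJ]

theorem preimage_eq (n : ℕ) (U : X.Opens) : S.q n ⁻¹ᵁ U = S.i n ⁻¹ᵁ (S.q (n + 1) ⁻¹ᵁ U) := by
  rw [← Scheme.Hom.comp_preimage, S.w]

theorem algMap_app_eq (n : ℕ) (U : X.Opens) (z : Γ(S.T (n + 1), S.q (n + 1) ⁻¹ᵁ U)) :
    (algMap (S.i n) (S.w n)).app U (show Γ(alg (S.q (n + 1)), U) from z) =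
      (show Γ(alg (S.q n), U) from (S.T n).presheaf.map (eqToHom (S.preimage_eq n U)).op ((S.i n).app _ z)) :=
  rfl

theorem app_surjective (n : ℕ) (U : X.affineOpens) :
    Function.Surjective ((algMap (S.i n) (S.w n)).app U.1) := by
  intro w
  haveI := S.fin (n + 1)
  haveI := S.closed n
  obtain ⟨z, hz⟩ := (isClosedImmersion_iff_isAffineHom.mp (S.closed n)).2 (S.q (n + 1) ⁻¹ᵁ U.1)
    (U.2.preimage _) ((S.T n).presheaf.map (eqToHom (S.preimage_eq n U.1).symm).op w)
  refine ⟨z, (S.algMap_app_eq n U.1 z).trans ?_⟩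
  rw [hz, ← ConcreteCategory.comp_apply, ← Functor.map_comp, ← op_comp, eqToHom_trans, eqToHom_refl, op_id,
    CategoryTheory.Functor.map_id]
  rfl

theorem app_eq_zero_iff (n : ℕ) (U : X.affineOpens) (z : Γ(alg (S.q (n + 1)), U.1)) :
    (algMap (S.i n) (S.w n)).app U.1 z = 0 ↔ Cong (J ^ (n + 1)) U z := by
  haveI := S.fin (n + 1)
  haveI := S.closed n
  rw [FormFin.cong_iff_mem, ← S.ker n, Scheme.Hom.ker_apply, RingHom.mem_ker]
  refine Iff.trans (Eq.congr_left (S.algMap_app_eq n U.1 z)) ?_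
  exact map_eq_zero_iff _
    (ConcreteCategory.bijective_of_isIso ((S.T n).presheaf.map (eqToHom (S.preimage_eq n U.1)).op)).1

theorem cong_zero (n : ℕ) (U : X.affineOpens) (z : Γ(alg (S.q n), U.1)) (hz : Cong (J ^ (n + 1)) U z) : z = 0 := by
  haveI := S.fin n
  rw [FormFin.cong_iff_mem, S.killed n] at hz
  simpa using hz

variable [IsLocallyNoetherian X]

theorem isCoh_alg (n : ℕ) : Coh.IsCoh (alg (S.q n)) := by
  haveI := S.fin n
  haveI : IsLocallyNoetherian (S.T n) := LocallyOfFiniteType.isLocallyNoetherian (S.q n)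
  exact QC.isCoh_pushforward_of_isFinite (hM := QC.isQCoh_unit _) (S.q n) RefStalk.isCoh_structureModule.2

include hJ in
theorem killedBy_alg (n : ℕ) : Formal.KilledBy (I ^ (n + 1)) (alg (S.q n)) := by
  intro a ha
  refine KosExt.hom_ext_affine fun U z => ?_
  change W7Cech.secRing A U.1 a • z = 0
  refine S.cong_zero n U _ (Submodule.smul_mem_smul ?_ Submodule.mem_top)
  rw [ideal_pow hJ, ← Ideal.map_pow]
  exact Ideal.mem_map_of_mem _ ha

/-- The inverse system. -/
def formalFun : ℕᵒᵖ ⥤ X.Modules :=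
  Functor.ofOpSequence (X := fun n => alg (S.q n)) (fun n => algMap (S.i n) (S.w n))

theorem formalFun_map (n : ℕ) : S.formalFun.map (homOfLE (Nat.le_succ n)).op = algMap (S.i n) (S.w n) :=
  Functor.ofOpSequence_map_homOfLE_succ _ n

include hJ in
theorem isCohFormal_formalFun : Formal.IsCohFormal I S.formalFun := by
  refine ⟨fun n => S.isCoh_alg n, fun n => S.killedBy_alg hJ n, fun n => ?_⟩
  let τ : alg (S.q (n + 1)) ⟶ alg (S.q n) := algMap (S.i n) (S.w n)
  obtain ⟨d, hd⟩ := W7Exist.exists_desc_modPow I (n + 1) τ fun a ha => by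
    rw [W7Cech.smulMod_natural, S.killedBy_alg hJ n a ha, comp_zero]
  haveI : IsIso d := FormFin.isIso_of_bijective_affine _ fun U => by
    haveI : Epi (Formal.modPowπ I (n + 1) (alg (S.q (n + 1)))) := by unfold Formal.modPowπ; infer_instance
    have hq : Coh.IsQCoh (Formal.modPow I (n + 1) (alg (S.q (n + 1)))) :=
      W7Rees.isQCoh_modQuot _ _ (S.isCoh_alg (n + 1)).1
    have hs := QC.app_surjective_of_epi U.2 (S.isCoh_alg (n + 1)).1 hq
      (Formal.modPowπ I (n + 1) (alg (S.q (n + 1))))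
    have hc : ∀ z, d.app U.1 ((Formal.modPowπ I (n + 1) (alg (S.q (n + 1)))).app U.1 z) = τ.app U.1 z :=
      fun z => congrArg (fun g : alg (S.q (n + 1)) ⟶ alg (S.q n) => g.app U.1 z) hd
    refine ⟨(injective_iff_map_eq_zero _).2 fun y hy => ?_, fun w => ?_⟩
    · obtain ⟨z, rfl⟩ := hs y
      rw [hc, S.app_eq_zero_iff] at hy
      refine (W7Rees.π_app_eq_zero_iff I (S.isCoh_alg (n + 1)).1 U.2 (n + 1) z).2 ?_
      rw [← ideal_pow hJ]
      exact hy
    · obtain ⟨z, hz⟩ := S.app_surjective n U w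
      exact ⟨_, (hc z).trans hz⟩
  have h : Formal.smulFamily (I ^ (n + 1)) (S.formalFun.obj (op (n + 1))) ≫
      S.formalFun.map (homOfLE (Nat.le_succ n)).op = 0 := by
    rw [S.formalFun_map n]
    refine (congrArg (_ ≫ ·) hd.symm).trans ?_
    exact (Category.assoc _ _ _).symm.trans ((congrArg (· ≫ d)
      (cokernel.condition (Formal.smulFamily (I ^ (n + 1)) (alg (S.q (n + 1)))))).trans zero_comp)
  refine ⟨h, ?_⟩
  have e : cokernel.desc _ (S.formalFun.map (homOfLE (Nat.le_succ n)).op) h = d :=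
    coequalizer.hom_ext ((cokernel.π_desc _ _ h).trans ((S.formalFun_map n).trans hd.symm))
  exact e ▸ ‹IsIso d›

variable {E : X.Modules} (α : Formal.completion I E ≅ S.formalFun)

/-- The reductions of the algebraization. -/
def θ (n : ℕ) : E ⟶ alg (S.q n) := Formal.modPowπ I (n + 1) E ≫ α.hom.app (op n)

theorem θ_comp (n : ℕ) : S.θ α (n + 1) ≫ algMap (S.i n) (S.w n) = S.θ α n := by
  rw [θ, θ, Category.assoc, ← S.formalFun_map n]
  refine (congrArg (_ ≫ ·) (α.hom.naturality (homOfLE (Nat.le_succ n)).op).symm).trans ?_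
  rw [← Category.assoc]
  refine congrArg (· ≫ α.hom.app (op n)) ?_
  rw [show (Formal.completion I E).map (homOfLE (Nat.le_succ n)).op = Formal.modPowTrans I (n + 1) E from
    Functor.ofOpSequence_map_homOfLE_succ _ n]
  exact Formal.modPowπ_trans I (n + 1) E

theorem θ_surj (hE : Coh.IsQCoh E) (n : ℕ) (U : X.affineOpens) : Function.Surjective ((S.θ α n).app U.1) := by
  haveI : Epi (Formal.modPowπ I (n + 1) E) := by unfold Formal.modPowπ; infer_instance
  exact (ConcreteCategory.bijective_of_isIso ((α.hom.app (op n)).app U.1)).2.comp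
    (QC.app_surjective_of_epi U.2 hE (W7Rees.isQCoh_modQuot _ _ hE) (Formal.modPowπ I (n + 1) E))

include hJ in
theorem θ_ker (hE : Coh.IsQCoh E) (n : ℕ) (U : X.affineOpens) (a : Γ(E, U.1)) :
    (S.θ α n).app U.1 a = 0 ↔ Cong (J ^ (n + 1)) U a := by
  change (α.hom.app (op n)).app U.1 ((Formal.modPowπ I (n + 1) E).app U.1 a) = 0 ↔ _
  rw [map_eq_zero_iff _ (ConcreteCategory.bijective_of_isIso ((α.hom.app (op n)).app U.1)).1,
    W7Rees.π_app_eq_zero_iff I hE U.2, ← ideal_pow hJ]

/-- The algebraization data. -/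
def algSys (hE : Coh.IsQCoh E) : AlgSys J E where
  T := S.T
  q := S.q
  i := S.i
  w := S.w
  θ := S.θ α
  comp := S.θ_comp α
  surj := S.θ_surj α hE
  ker := S.θ_ker hJ α hE

variable [IsNoetherianRing A] [IsAdicComplete I A] [LocallyOfFiniteType (X ↘ Spec (CommRingCat.of A))]
  [QuasiCompact (X ↘ Spec (CommRingCat.of A))]

include hJ in
/-- The algebra structure on the algebraization. -/
theorem exists_algData (hE : Coh.IsCoh E)
    (hs : ClSub.IsProperOver (X ↘ Spec (CommRingCat.of A)) (CohB1.support E)) :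
    ∃ R : AlgData E,
      (∀ (n : ℕ) (U : X.Opens) (a b : Γ(E, U)),
        (S.θ α n).app U (R.μ.app U (TMul.tm a b)) = mulA (S.q n) ((S.θ α n).app U a) ((S.θ α n).app U b)) ∧
      ∀ (n : ℕ) (U : X.Opens), (S.θ α n).app U (res E le_top R.one) = unitA (S.q n) U := by
  let β : ∀ n, Formal.modPow I (n + 1) E ≅ alg (S.q n) := fun n => α.app (op n)
  have hβ : ∀ n, Formal.modPowπ I (n + 1) E ≫ (β n).hom = S.θ α n := fun n => rfl
  have hτ : ∀ n, (β (n + 1)).hom ≫ algMap (S.i n) (S.w n) = Formal.modPowTrans I (n + 1) E ≫ (β n).hom :=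
    fun n => by
      haveI : Epi (Formal.modPowπ I (n + 1 + 1) E) := by unfold Formal.modPowπ; infer_instance
      rw [← cancel_epi (Formal.modPowπ I (n + 1 + 1) E), ← Category.assoc, hβ, S.θ_comp,
        ← Category.assoc, Formal.modPowπ_trans, hβ]
  have key : ∀ {D : X.Modules}, Coh.IsCoh D → ∀ ψ : ∀ n, D ⟶ alg (S.q n),
      (∀ n, ψ (n + 1) ≫ algMap (S.i n) (S.w n) = ψ n) → ∃! φ : D ⟶ E, ∀ n, φ ≫ S.θ α n = ψ n := by
    intro D hD ψ hψ
    let g : ∀ n, D ⟶ Formal.modPow I n E := fun n => match n with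
      | 0 => (ψ 0 ≫ (β 0).inv) ≫ Formal.modPowTrans I 0 E
      | k + 1 => ψ k ≫ (β k).inv
    have hg : ∀ n, g (n + 1) ≫ Formal.modPowTrans I n E = g n := fun n => by
      cases n with
      | zero => rfl
      | succ k =>
        change (ψ (k + 1) ≫ (β (k + 1)).inv) ≫ Formal.modPowTrans I (k + 1) E = ψ k ≫ (β k).inv
        rw [← cancel_mono (β k).hom, Category.assoc, Category.assoc, ← hτ, Iso.inv_hom_id_assoc, Category.assoc,
          Iso.inv_hom_id, Category.comp_id, hψ]
    have hsD : ClSub.IsProperOver (X ↘ Spec (CommRingCat.of A)) (CohB1.support D ∩ CohB1.support E) :=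
      ClSubLib.mono hs ((QC.isClosed_support hD.2).inter (QC.isClosed_support hE.2)) Set.inter_subset_right
    obtain ⟨φ, hφ, hu⟩ := W7Rees.exists_unique_hom I hD hE hsD g hg
    refine ⟨φ, fun n => ?_, fun φ' hφ' => hu φ' fun n => ?_⟩
    · rw [← hβ, ← Category.assoc, hφ (n + 1)]
      exact (Category.assoc _ _ _).trans ((congrArg (ψ n ≫ ·) (β n).inv_hom_id).trans (Category.comp_id _))
    · cases n with
      | zero =>
        show φ' ≫ Formal.modPowπ I 0 E = (ψ 0 ≫ (β 0).inv) ≫ Formal.modPowTrans I 0 E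
        rw [← Formal.modPowπ_trans I 0 E, ← Category.assoc]
        refine congrArg (· ≫ _) ?_
        rw [Iso.eq_comp_inv, Category.assoc, hβ]
        exact hφ' 0
      | succ k =>
        show φ' ≫ Formal.modPowπ I (k + 1) E = ψ k ≫ (β k).inv
        rw [Iso.eq_comp_inv, Category.assoc, hβ]
        exact hφ' k
  exact exists_algData_of_lift (S.algSys hJ α hE.1) (fun D => Coh.IsCoh D)
    (fun {D} hD ψ hψ => (key hD ψ hψ).exists)
    (fun {D} hD φ φ' h => by
      obtain ⟨χ, -, hu⟩ := key hD (fun n => φ' ≫ S.θ α n) fun n => by rw [Category.assoc, S.θ_comp]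
      exact (hu φ h).trans (hu φ' fun n => rfl).symm)
    hE RefStalk.isCoh_structureModule fun {D D'} hD hD' => by
      haveI : Coh.IsQCoh D := hD.1
      haveI : Coh.IsQCoh D' := hD'.1
      exact ⟨(S2297.result D D').1, (S2297.result D D').2 hD.2 hD'.2⟩

end Sys

end Groth.Agent.FormFin
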